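import Groth.Agent.HomTriv.KeyNoeth
import Groth.Agent.MonoFibre.Homogeneous2
import Groth.Agent.FpqcDesc.Misc
import Groth.Agent.FixedSmooth.Normalizer
import Groth.Agent.MonoFibre.MultType
/-!
The locus where a homomorphism from a group of multiplicative type to a separated group is trivial is open and closed.
-/

set_option autoImplicit false
set_option backward.isDefEq.respectTransparency false
set_option backward.isDefEq.respectTransparency.types false
set_option linter.style.haveILetI false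

universe u

open CategoryTheory CategoryTheory.Limits MonoidalCategory CartesianMonoidalCategory MonObj AlgebraicGeometry

noncomputable section

namespace Groth.Agent.HomTriv

open FixedSmooth

variable {S : Scheme.{u}} {H G : Over S} [GrpObj H] [GrpObj G]

theorem triv_iff_map (u : H ⟶ G) [IsMonHom u] {T : Scheme.{u}} (t : T ⟶ S) :
    Triv u t ↔ (Over.pullback t).map u = 1 := by
  refine ⟨fun h => ?_, fun h Y p x => TrivAct.comp_eq_one_of_map_eq_one t u h Y p x⟩
  let Y : Over T := Red.bc t H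
  let x : (Over.map t).obj Y ⟶ H := (adjEquiv t H Y).symm (𝟙 Y)
  let p : (Over.map t).obj Y ⟶ Over.mk t := Over.homMk Y.hom rfl
  have h1 := adjEquiv_comp (G := G) t u (Y := Y) x
  rw [h _ p x, map_one, MulEquiv.apply_symm_apply, Category.id_comp] at h1
  exact h1.symm

variable {B : CommRingCat.{u}} {t : Spec B ⟶ S} {M : Type} [AddCommGroup M]

/-- Triviality descends along field extensions. -/
theorem fibre_of_residue (u : H ⟶ G) (P : PrimeSpectrum B)
    (h : Triv u (Spec.map (CommRingCat.ofHom (algebraMap B P.asIdeal.ResidueField)) ≫ t)) :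
    Triv u (S.fromSpecResidueField (t P)) := by
  let c : Spec (CommRingCat.of P.asIdeal.ResidueField) ⟶ S :=
    Spec.map (CommRingCat.ofHom (algebraMap B P.asIdeal.ResidueField)) ≫ t
  have hP : c (IsLocalRing.closedPoint P.asIdeal.ResidueField) = t P := by
    show (Spec.map _ ≫ t) _ = _
    rw [Scheme.Hom.comp_apply]
    congr 1
    refine PrimeSpectrum.ext ?_
    show (IsLocalRing.maximalIdeal P.asIdeal.ResidueField).comap (algebraMap B P.asIdeal.ResidueField) = _
    rw [IsLocalRing.maximalIdeal_eq_bot]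
    exact Ideal.ker_algebraMap_residueField P.asIdeal
  rw [← hP]
  let c₀ := c (IsLocalRing.closedPoint P.asIdeal.ResidueField)
  intro Y p x
  let k : Spec (CommRingCat.of P.asIdeal.ResidueField) ⟶ Spec (S.residueField c₀) :=
    Spec.map (Scheme.descResidueField (Scheme.stalkClosedPointTo c))
  have hk : k ≫ S.fromSpecResidueField c₀ = c := Scheme.descResidueField_stalkClosedPointTo_fromSpecResidueField _ _ c
  haveI : Flat k := (HasRingHomProperty.Spec_iff (P := @Flat)).2 (MonoFibre.flat_of_field _)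
  haveI : Surjective k := ⟨fun z => ⟨IsLocalRing.closedPoint P.asIdeal.ResidueField,
    @Subsingleton.elim _ (inferInstanceAs (Subsingleton (PrimeSpectrum (S.residueField c₀)))) _ _⟩⟩
  let π : pullback p.left k ⟶ Y.left := pullback.fst p.left k
  haveI : Flat π := MorphismProperty.pullback_fst _ _ ‹Flat k›
  haveI : Surjective π := MorphismProperty.pullback_fst _ _ ‹Surjective k›
  haveI : QuasiCompact π := MorphismProperty.pullback_fst _ _ (inferInstance : QuasiCompact k)
  haveI : Epi π := Flat.epi_of_flat_of_surjective _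
  have hw : (pullback.snd p.left k) ≫ c = π ≫ Y.hom := by
    refine (congrArg (pullback.snd p.left k ≫ ·) hk.symm).trans ?_
    show pullback.snd p.left k ≫ k ≫ _ = _
    rw [← Category.assoc, ← pullback.condition, Category.assoc]
    exact congrArg (π ≫ ·) (Over.w p)
  let Y' : Over S := Over.mk (π ≫ Y.hom)
  let f : Y' ⟶ Y := Over.homMk π rfl
  have h2 := h Y' (Over.homMk (pullback.snd p.left k) hw) (f ≫ x)
  apply Over.OverMorphism.ext
  rw [← cancel_epi π]
  rw [Category.assoc] at h2
  exact congrArg CommaMorphism.left (h2.trans (MonObj.comp_one f).symm)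

variable [IsSeparated G.hom]

/-- Triviality at a point of a chart, in coefficients. -/
theorem exists_locus (σ : Split H t M) (u : H ⟶ G) [IsMonHom u]
    (hK : ∀ P : PrimeSpectrum B, Triv u (S.fromSpecResidueField (t P)) → univ (res σ (toLoc P)) ≫ u = 1) :
    IsClosed {P : Spec B | Triv u (S.fromSpecResidueField (t P))} ∧
      StableUnderGeneralization {P : Spec B | Triv u (S.fromSpecResidueField (t P))} ∧
      (LocallyOfFiniteType G.hom → IsOpen {P : Spec B | Triv u (S.fromSpecResidueField (t P))}) ∧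
      ((∀ P : Spec B, Triv u (S.fromSpecResidueField (t P))) → univ σ ≫ u = 1) := by
  classical
  obtain ⟨J, hJ, hfg, hbot⟩ := exists_triv_ideal σ u
  have hV : ∀ P : PrimeSpectrum B,
      Triv u (S.fromSpecResidueField (t P)) ↔ ∀ w ∈ J, ∀ m, MonoidAlgebra.coeff w m ∈ P.asIdeal := fun P => by
    let g : B ⟶ CommRingCat.of P.asIdeal.ResidueField := CommRingCat.ofHom (algebraMap B P.asIdeal.ResidueField)
    have e : univ (res σ g) ≫ u = 1 ↔ Triv u (S.fromSpecResidueField (t P)) := by
      rw [← triv_iff]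
      exact ⟨fibre_of_residue u P, fun h => Triv.of_fibre t P h g
        (fun r hr => RingHom.mem_ker.2 (Ideal.algebraMap_residueField_eq_zero.2 hr))
        (fun r hr => IsUnit.mk0 _ (mt Ideal.algebraMap_residueField_eq_zero.1 hr))⟩
    rw [← e, hJ]
    simp only [g, CommRingCat.hom_ofHom, Ideal.algebraMap_residueField_eq_zero]
  have hkill : ∀ P : PrimeSpectrum B, Triv u (S.fromSpecResidueField (t P)) →
      ∀ w ∈ J, ∀ m, ∃ a, a ∉ P.asIdeal ∧ a * MonoidAlgebra.coeff w m = 0 := fun P hP w hw m => by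
    have h := ((hJ (toLoc P)).1 (hK P hP)) w hw m
    obtain ⟨⟨a, ha⟩, ha0⟩ := (IsLocalization.map_eq_zero_iff P.asIdeal.primeCompl (Localization.AtPrime P.asIdeal) _).1 h
    exact ⟨a, ha, ha0⟩
  refine ⟨?_, ?_, fun hft => ?_, fun hall => hbot ?_⟩
  · have : {P : Spec B | Triv u (S.fromSpecResidueField (t P))} =
        PrimeSpectrum.zeroLocus {c : B | ∃ w ∈ J, ∃ m, MonoidAlgebra.coeff w m = c} := by
      ext P
      refine (hV P).trans ⟨fun h c ⟨w, hw, m, hc⟩ => hc ▸ h w hw m, fun h w hw m => h ⟨w, hw, m, rfl⟩⟩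
    rw [this]
    exact PrimeSpectrum.isClosed_zeroLocus _
  · intro P P' hPP' hP
    refine (hV P').2 fun w hw m => ?_
    obtain ⟨a, ha, ha0⟩ := hkill P hP w hw m
    have hle : (P' : PrimeSpectrum B).asIdeal ≤ (P : PrimeSpectrum B).asIdeal :=
      (PrimeSpectrum.le_iff_specializes _ _).2 hPP'
    exact ((P' : PrimeSpectrum B).isPrime.mem_or_mem (ha0 ▸ Ideal.zero_mem _)).resolve_left fun h' => ha (hle h')
  · obtain ⟨s, hs⟩ := hfg hft
    refine isOpen_iff_forall_mem_open.2 fun P hP => ?_
    let Φ : Finset B := s.biUnion fun w => w.coeff.support.image fun m => MonoidAlgebra.coeff w m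
    have hΦ : ∀ c ∈ Φ, ∃ a, a ∉ (P : PrimeSpectrum B).asIdeal ∧ a * c = 0 := fun c hc => by
      obtain ⟨w, hw, hc⟩ := Finset.mem_biUnion.1 hc
      obtain ⟨m, -, rfl⟩ := Finset.mem_image.1 hc
      exact hkill P hP w (hs ▸ Ideal.subset_span hw) m
    choose! a ha ha0 using hΦ
    refine ⟨(PrimeSpectrum.basicOpen (∏ c ∈ Φ, a c) : Set (PrimeSpectrum B)), fun P' hP' => ?_,
      (PrimeSpectrum.basicOpen _).2, ?_⟩
    · refine (hV P').2 fun w hw m => ?_
      have hle : J ≤ RingHom.ker (MonoidAlgebra.mapRingHom (Multiplicative M)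
          (Ideal.Quotient.mk (P' : PrimeSpectrum B).asIdeal)) := by
        rw [← hs]
        refine Ideal.span_le.2 fun w' hw' => RingHom.mem_ker.2 ?_
        ext m'
        simp only [MonoidAlgebra.coeff_zero, Finsupp.coe_zero, Pi.zero_apply]
        by_cases hm : m' ∈ w'.coeff.support
        · have hc : MonoidAlgebra.coeff w' m' ∈ Φ :=
            Finset.mem_biUnion.2 ⟨w', hw', Finset.mem_image_of_mem _ hm⟩
          have hane : a (MonoidAlgebra.coeff w' m') ∉ (P' : PrimeSpectrum B).asIdeal := fun h' =>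
            hP' (Ideal.mem_of_dvd _ (Finset.dvd_prod_of_mem a hc) h')
          simpa [Ideal.Quotient.eq_zero_iff_mem] using
            ((P' : PrimeSpectrum B).isPrime.mem_or_mem (ha0 _ hc ▸ Ideal.zero_mem _)).resolve_left hane
        · simp [Finsupp.notMem_support_iff.1 hm]
      have h0 := congrArg (fun z => MonoidAlgebra.coeff z m) (RingHom.mem_ker.1 (hle hw))
      exact Ideal.Quotient.eq_zero_iff_mem.1 (by simpa using h0)
    · intro hP'
      obtain ⟨c, hc, hc'⟩ := ((P : PrimeSpectrum B).isPrime.prod_mem_iff).1 hP'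
      exact ha c hc hc'
  · refine (Submodule.eq_bot_iff _).2 fun w hw => ?_
    ext m
    simp only [MonoidAlgebra.coeff_zero, Finsupp.coe_zero, Pi.zero_apply]
    by_contra hne
    obtain ⟨Q, hQ, hle⟩ := Ideal.exists_le_maximal
      (Submodule.annihilator (Ideal.span {MonoidAlgebra.coeff w m})) (fun htop => hne (by
        have := Submodule.mem_annihilator.1 (htop ▸ Submodule.mem_top (x := (1 : B))) _
          (Ideal.mem_span_singleton_self (MonoidAlgebra.coeff w m))
        simpa using this))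
    obtain ⟨b, hb, hb0⟩ := hkill ⟨Q, hQ.isPrime⟩ (hall _) w hw m
    exact hb (hle (Submodule.mem_annihilator.2 fun z hz => by
      obtain ⟨z', rfl⟩ := Ideal.mem_span_singleton'.1 hz
      rw [smul_eq_mul, mul_left_comm, hb0, mul_zero]))

/-- The trivial locus is open and closed, and the homomorphism is trivial over it. -/
theorem exists_clopen (hH : SGA3x.IsMultTypeFT H) (hG : IsLocallyNoetherian S ∨ LocallyOfFiniteType G.hom)
    (u : H ⟶ G) [IsMonHom u] :
    ∃ U : S.Opens, IsClosed (U : Set S) ∧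
      (∀ s : S, s ∈ U ↔ Triv u (S.fromSpecResidueField s)) ∧ Triv u U.ι := by
  have hcov : HasSplitCoversFG H := hasSplitCoversFG_of_isMultTypeFT hH
  haveI : IsAffineHom H.hom := isAffineHom_of_isMultTypeLoc (WeilClosedLib.IsMultTypeLoc.of_isMultTypeFT hH)
  haveI : LocallyOfFiniteType H.hom := MonoFibre.locallyOfFiniteType_of_isMultTypeFT H hH
  have hK : ∀ (B : CommRingCat.{u}) (t : Spec B ⟶ S) (M : Type) [AddCommGroup M] (_ : AddGroup.FG M)
      (σ : Split H t M) (P : PrimeSpectrum B),
      Triv u (S.fromSpecResidueField (t P)) → univ (res σ (toLoc P)) ≫ u = 1 := fun B t M _ hM σ P h => by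
    rcases hG with hG | hG
    · exact triv_local_noeth hcov.hasSplitCovers σ u P h
    · exact triv_local_lft σ u P h
  let T : Set S := {s | Triv u (S.fromSpecResidueField s)}
  have hclosed : IsClosed T := by
    rw [← isOpen_compl_iff, isOpen_iff_forall_mem_open]
    intro s hs
    obtain ⟨V, hV, hsV, -⟩ := exists_isAffineOpen_mem_and_subset (x := s) (U := ⊤) trivial
    obtain ⟨κ, _, B, g, hfl, hsur, hsp⟩ := hcov.exists_over V hV
    haveI : IsAffine V.toScheme := hV
    haveI : IsAffine (∐ fun i => Spec (B i)) := inferInstance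
    haveI : Flat (Sigma.desc g) := by
      haveI : IsZariskiLocalAtSource (@Flat.{u}) :=
        HasRingHomProperty.instIsZariskiLocalAtSource.{u} (Q := RingHom.Flat)
      exact IsZariskiLocalAtSource.sigmaDesc hfl
    haveI : Surjective (Sigma.desc g) := ⟨fun z => by
      obtain ⟨i, a, ha⟩ := hsur z
      exact ⟨Sigma.ι (fun i => Spec (B i)) i a, by erw [← Scheme.Hom.comp_apply, Sigma.ι_desc]; exact ha⟩⟩
    have hop : IsOpen (V.ι ⁻¹' Tᶜ) := by
      rw [← (Flat.isQuotientMap_of_surjective (Sigma.desc g)).isOpen_preimage]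
      have : (Sigma.desc g) ⁻¹' (V.ι ⁻¹' Tᶜ) =
          ⋃ i, (Sigma.ι (fun i => Spec (B i)) i) '' ((g i ≫ V.ι) ⁻¹' Tᶜ) := by
        ext z
        constructor
        · intro hz
          obtain ⟨⟨i, a⟩, rfl⟩ := (sigmaMk (fun i => Spec (B i))).surjective z
          refine Set.mem_iUnion.2 ⟨i, a, ?_, (sigmaMk_mk (fun i => Spec (B i)) i a).symm⟩
          simp only [Set.mem_preimage, sigmaMk_mk, ← Scheme.Hom.comp_apply] at hz
          erw [Sigma.ι_desc] at hz
          simpa using hz
        · rintro hz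
          obtain ⟨i, a, ha, rfl⟩ := Set.mem_iUnion.1 hz
          simp only [Set.mem_preimage, ← Scheme.Hom.comp_apply]
          erw [Sigma.ι_desc]
          simpa using ha
      rw [this]
      refine isOpen_iUnion fun i => (Sigma.ι (fun i => Spec (B i)) i).isOpenEmbedding.isOpenMap _ ?_
      obtain ⟨M, _, hM, ⟨σ⟩⟩ := hsp i
      exact (exists_locus σ u (hK _ _ M hM σ)).1.isOpen_compl
    exact ⟨V.ι '' (V.ι ⁻¹' Tᶜ), Set.image_preimage_subset _ _, V.ι.isOpenEmbedding.isOpenMap _ hop,
      ⟨⟨s, hsV⟩, hs, rfl⟩⟩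
  have hgen : StableUnderGeneralization T := by
    intro s s' hss' hs
    obtain ⟨V, hV, hsV, -⟩ := exists_isAffineOpen_mem_and_subset (x := s) (U := ⊤) trivial
    have hs'V : s' ∈ V := hss'.mem_open V.2 hsV
    obtain ⟨κ, _, B, g, hfl, hsur, hsp⟩ := hcov.exists_over V hV
    obtain ⟨i, a, ha⟩ := hsur ⟨s, hsV⟩
    haveI := hfl i
    have hsp' : (⟨s', hs'V⟩ : V.toScheme) ⤳ g i a := by
      rw [ha]
      exact V.ι.isOpenEmbedding.isInducing.specializes_iff.1 hss'
    obtain ⟨a', ha', hga'⟩ := Flat.generalizingMap (g i) hsp'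
    obtain ⟨M, _, hM, ⟨σ⟩⟩ := hsp i
    have e : ∀ x, (g i ≫ V.ι) x = V.ι (g i x) := fun x => Scheme.Hom.comp_apply _ _ _
    have h1 : Triv u (S.fromSpecResidueField ((g i ≫ V.ι) a)) := by rw [e, ha]; exact hs
    have h2 : Triv u (S.fromSpecResidueField ((g i ≫ V.ι) a')) := (exists_locus σ u (hK _ _ M hM σ)).2.1 ha' h1
    rwa [e, hga'] at h2
  have hopen : IsOpen T := by
    rcases hG with hG' | hG'
    · exact FpqcMisc.isOpen_of_closed_generalization T hclosed hgen
    · refine isOpen_iff_forall_mem_open.2 fun s hs => ?_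
      obtain ⟨V, hV, hsV, -⟩ := exists_isAffineOpen_mem_and_subset (x := s) (U := ⊤) trivial
      obtain ⟨κ, _, B, g, hfl, hsur, hsp⟩ := hcov.exists_over V hV
      haveI : IsAffine V.toScheme := hV
      haveI : IsAffine (∐ fun i => Spec (B i)) := inferInstance
      haveI : Flat (Sigma.desc g) := by
        haveI : IsZariskiLocalAtSource (@Flat.{u}) :=
          HasRingHomProperty.instIsZariskiLocalAtSource.{u} (Q := RingHom.Flat)
        exact IsZariskiLocalAtSource.sigmaDesc hfl
      haveI : Surjective (Sigma.desc g) := ⟨fun z => by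
        obtain ⟨i, a, ha⟩ := hsur z
        exact ⟨Sigma.ι (fun i => Spec (B i)) i a, by erw [← Scheme.Hom.comp_apply, Sigma.ι_desc]; exact ha⟩⟩
      have hop : IsOpen (V.ι ⁻¹' T) := by
        rw [← (Flat.isQuotientMap_of_surjective (Sigma.desc g)).isOpen_preimage]
        have : (Sigma.desc g) ⁻¹' (V.ι ⁻¹' T) =
            ⋃ i, (Sigma.ι (fun i => Spec (B i)) i) '' ((g i ≫ V.ι) ⁻¹' T) := by
          ext z
          constructor
          · intro hz
            obtain ⟨⟨i, a⟩, rfl⟩ := (sigmaMk (fun i => Spec (B i))).surjective z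
            refine Set.mem_iUnion.2 ⟨i, a, ?_, (sigmaMk_mk (fun i => Spec (B i)) i a).symm⟩
            simp only [Set.mem_preimage, sigmaMk_mk, ← Scheme.Hom.comp_apply] at hz
            erw [Sigma.ι_desc] at hz
            simpa using hz
          · rintro hz
            obtain ⟨i, a, ha, rfl⟩ := Set.mem_iUnion.1 hz
            simp only [Set.mem_preimage, ← Scheme.Hom.comp_apply]
            erw [Sigma.ι_desc]
            simpa using ha
        rw [this]
        refine isOpen_iUnion fun i => (Sigma.ι (fun i => Spec (B i)) i).isOpenEmbedding.isOpenMap _ ?_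
        obtain ⟨M, _, hM, ⟨σ⟩⟩ := hsp i
        exact (exists_locus σ u (hK _ _ M hM σ)).2.2.1 hG'
      exact ⟨V.ι '' (V.ι ⁻¹' T), Set.image_preimage_subset _ _, V.ι.isOpenEmbedding.isOpenMap _ hop,
        ⟨⟨s, hsV⟩, hs, rfl⟩⟩
  let U : S.Opens := ⟨T, hopen⟩
  refine ⟨U, hclosed, fun s => Iff.rfl, fun Y p x => ?_⟩
  -- refine the splitting to one with finitely generated characters
  refine hom_ext_affine _ _ fun D p₀ w => ?_
  rw [MonObj.comp_one, ← Category.assoc]
  apply Over.OverMorphism.ext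
  refine Scheme.hom_ext_of_forall _ _ fun z => ?_
  obtain ⟨V, hV, hzV, -⟩ := exists_isAffineOpen_mem_and_subset (x := p₀ z) (U := ⊤) trivial
  obtain ⟨Dz, hDz, hzD, hDV⟩ := exists_isAffineOpen_mem_and_subset (x := (z : Spec D)) (U := p₀ ⁻¹ᵁ V) hzV
  refine ⟨Dz, hzD, ?_⟩
  haveI : IsAffine V.toScheme := hV
  haveI : IsAffine Dz.toScheme := hDz
  obtain ⟨κ, _, B, g, hfl, hsur, hsp⟩ := hcov.exists_over V hV
  let r : Dz.toScheme ⟶ V.toScheme := p₀.resLE V Dz hDV
  haveI := hfl
  let f : ∀ i, pullback (g i) r ⟶ Dz.toScheme := fun i => pullback.snd (g i) r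
  haveI : ∀ i, IsAffine (pullback (g i) r) := fun i => inferInstance
  haveI : Flat (Sigma.desc f) := by
    haveI : IsZariskiLocalAtSource (@Flat.{u}) :=
      HasRingHomProperty.instIsZariskiLocalAtSource.{u} (Q := RingHom.Flat)
    exact IsZariskiLocalAtSource.sigmaDesc fun i => inferInstance
  haveI : Surjective (Sigma.desc f) := ⟨fun y => by
    obtain ⟨i, a, ha⟩ := hsur (r y)
    obtain ⟨a', -, ha'⟩ := Scheme.Pullback.exists_preimage_pullback a y ha
    refine ⟨Sigma.ι (fun i => pullback (g i) r) i a', ?_⟩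
    erw [← Scheme.Hom.comp_apply, Sigma.ι_desc]
    exact ha'⟩
  haveI : Epi (Sigma.desc f) := Flat.epi_of_flat_of_surjective _
  refine (cancel_epi (Sigma.desc f)).1 (Sigma.hom_ext _ _ fun i => ?_)
  rw [← Category.assoc, ← Category.assoc, Sigma.ι_desc]
  obtain ⟨M, _, hM, ⟨σ⟩⟩ := hsp i
  let Q := pullback (g i) r
  let t : Spec Γ(Q, ⊤) ⟶ S := (Q.isoSpec.inv ≫ pullback.fst (g i) r) ≫ g i ≫ V.ι
  let c : Spec Γ(Q, ⊤) ⟶ Spec D := Q.isoSpec.inv ≫ f i ≫ Dz.ι
  have hc : c ≫ p₀ = t := by
    simp only [c, t, f, Category.assoc, ← Scheme.Hom.resLE_comp_ι p₀ hDV]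
    rw [← pullback.condition_assoc]
  let e : Over.mk t ⟶ Over.mk p₀ := Over.homMk c hc
  let τ : Split H t M := σ.comp (Q.isoSpec.inv ≫ pullback.fst (g i) r) rfl
  have hall : ∀ P : Spec Γ(Q, ⊤), Triv u (S.fromSpecResidueField (t P)) := fun P => by
    have : t P ∈ T := by
      have h' : t = (e ≫ w ≫ p).left ≫ U.ι := (Over.w (e ≫ w ≫ p)).symm
      rw [h', Scheme.Hom.comp_apply]
      exact ((e ≫ w ≫ p).left P).2
    exact this
  have key := comp_eq_one_of_univ τ u ((exists_locus τ u (hK _ _ M hM τ)).2.2.2 hall) (𝟙 _) (e ≫ w ≫ x)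
  have key' := congrArg CommaMorphism.left (key.trans (MonObj.comp_one e).symm)
  rw [← cancel_epi Q.isoSpec.inv]
  simp only [e, c, Over.comp_left, Category.assoc, Over.homMk_left, Sigma.ι_desc_assoc] at key' ⊢
  exact key'

end Groth.Agent.HomTriv
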