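import Groth.Agent.HomTriv.Ideal
import Groth.Agent.TrivAct.LocalAct
import Groth.Agent.TrivAct.Density
import Groth.Agent.TrivAct.Apps
/-!
A homomorphism from a split group which is trivial at a point is trivial over the local ring of that point
(target locally of finite type and separated).
-/

set_option autoImplicit false
set_option backward.isDefEq.respectTransparency false
set_option backward.isDefEq.respectTransparency.types false
set_option linter.style.haveILetI false

universe u

open CategoryTheory CategoryTheory.Limits MonoidalCategory CartesianMonoidalCategory MonObj AlgebraicGeometry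

noncomputable section

namespace Groth.Agent.HomTriv

open FixedSmooth

section Alg

variable {R A : Type u} [CommRing R] [CommRing A] {K T : Type} [CommGroup K] [CommGroup T]

theorem mapDomain_comp_map (f : R →+* A) (π : K →* T) :
    (MonoidAlgebra.mapDomainRingHom A π).comp (MonoidAlgebra.mapRingHom K f) =
      L ((MonoidAlgebra.singleOneRingHom : A →+* MonoidAlgebra A T).comp f) ((MonoidAlgebra.of A T).comp π) := by
  refine MonoidAlgebra.ringHom_ext (fun c => ?_) (fun m => ?_) <;>
    simp [MonoidAlgebra.mapDomainRingHom]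

theorem mapDomain_const (π : K →* T) :
    (MonoidAlgebra.mapDomainRingHom A π).comp MonoidAlgebra.singleOneRingHom =
      (MonoidAlgebra.singleOneRingHom : A →+* MonoidAlgebra A T) := by
  ext c; simp [MonoidAlgebra.mapDomainRingHom]

end Alg

variable {S : Scheme.{u}} {H G : Over S} [GrpObj H] [GrpObj G]

/-- Triviality over a scheme over the base. -/
def Triv (u : H ⟶ G) {T : Scheme.{u}} (t : T ⟶ S) : Prop :=
  ∀ (Y : Over S) (_ : Y ⟶ Over.mk t) (h : Y ⟶ H), h ≫ u = 1

theorem Triv.of_comp {u : H ⟶ G} {T T' : Scheme.{u}} {t : T ⟶ S} (h : Triv u t) (k : T' ⟶ T) {t' : T' ⟶ S}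
    (hk : k ≫ t = t') : Triv u t' := fun Y p x => h Y (p ≫ Over.homMk k hk) x

variable {B : CommRingCat.{u}} {t : Spec B ⟶ S} {M : Type} [AddCommGroup M]

theorem triv_iff (σ : Split H t M) (u : H ⟶ G) : Triv u t ↔ univ σ ≫ u = 1 :=
  ⟨fun h => h _ (Over.homMk (Spec.map (gc B M)) rfl) (univ σ), fun h _ p x => comp_eq_one_of_univ σ u h p x⟩

/-- Fibrewise triviality gives triviality over rings over the residue field. -/
theorem Triv.of_fibre {u : H ⟶ G} (t : Spec B ⟶ S) (P : PrimeSpectrum B)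
    (h : Triv u (S.fromSpecResidueField (t P))) {D : CommRingCat.{u}} (g : B ⟶ D) (hg : P.asIdeal ≤ RingHom.ker g.hom)
    (hu : ∀ r, r ∉ P.asIdeal → IsUnit (g.hom r)) : Triv u (Spec.map g ≫ t) := by
  let k : CommRingCat.of P.asIdeal.ResidueField ⟶ D :=
    CommRingCat.ofHom (Ideal.ResidueField.lift P.asIdeal g.hom hg fun r hr => hu r hr)
  let c : Spec (CommRingCat.of P.asIdeal.ResidueField) ⟶ S :=
    Spec.map (CommRingCat.ofHom (algebraMap B P.asIdeal.ResidueField)) ≫ t
  have hk : CommRingCat.ofHom (algebraMap B P.asIdeal.ResidueField) ≫ k = g :=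
    CommRingCat.hom_ext (RingHom.ext fun r => Ideal.ResidueField.lift_algebraMap P.asIdeal g.hom hg (fun r hr => hu r hr) r)
  have hP : c (IsLocalRing.closedPoint P.asIdeal.ResidueField) = t P := by
    show (Spec.map _ ≫ t) _ = _
    rw [Scheme.Hom.comp_apply]
    congr 1
    refine PrimeSpectrum.ext ?_
    show (IsLocalRing.maximalIdeal P.asIdeal.ResidueField).comap (algebraMap B P.asIdeal.ResidueField) = _
    rw [IsLocalRing.maximalIdeal_eq_bot]
    exact Ideal.ker_algebraMap_residueField P.asIdeal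
  rw [← hP] at h
  refine h.of_comp (Spec.map k ≫ Spec.map (Scheme.descResidueField (Scheme.stalkClosedPointTo c))) ?_
  rw [Category.assoc, Scheme.descResidueField_stalkClosedPointTo_fromSpecResidueField, ← hk, Spec.map_comp]
  simp only [c, Category.assoc]

/-- The localisation at a point. -/
abbrev toLoc (P : PrimeSpectrum B) : B ⟶ CommRingCat.of (Localization.AtPrime P.asIdeal) :=
  CommRingCat.ofHom (algebraMap B (Localization.AtPrime P.asIdeal))

theorem triv_local_lft [IsSeparated G.hom] [LocallyOfFiniteType G.hom] [AddGroup.FG M] (σ : Split H t M) (u : H ⟶ G)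
    [IsMonHom u] (P : PrimeSpectrum B) (h0 : Triv u (S.fromSpecResidueField (t P))) :
    univ (res σ (toLoc P)) ≫ u = 1 := by
  let A : CommRingCat.{u} := CommRingCat.of (Localization.AtPrime P.asIdeal)
  let q : Spec A ⟶ Spec B := Spec.map (toLoc P)
  let act : H ⊗ G ⟶ G := (fst H G ≫ u) * snd H G
  have hl : ∀ (Y : Over S) (h : Y ⟶ H) (x : Y ⟶ G), lift h x ≫ act = (h ≫ u) * x := fun Y h x => by
    simp [act, MonObj.comp_mul]
  let one : Over.mk (q ≫ t) ⟶ G := 1
  let e : Spec A ⟶ pullback G.hom (q ≫ t) := pullback.lift one.left (𝟙 _) (by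
    rw [Category.id_comp]; exact Over.w one)
  let c : Spec A := IsLocalRing.closedPoint (Localization.AtPrime P.asIdeal)
  have hc : (pullback.snd G.hom (q ≫ t) (e c) : PrimeSpectrum A).asIdeal =
      IsLocalRing.maximalIdeal (Localization.AtPrime P.asIdeal) := by
    rw [← Scheme.Hom.comp_apply, pullback.lift_snd]
    rfl
  obtain ⟨C, iC, xP, hxP, -, hfac, htriv⟩ := TrivAct.exists_local_torsion_trivial act
    (fun X h h' x => by simp [hl, MonObj.mul_comp, _root_.mul_assoc]) (fun X x => by simp [hl, MonObj.one_comp])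
    σ A q (e c) (fun {B'} g hg hu h y => by
      rw [hc] at hg hu
      rw [hl]
      have h1 : Triv u (Spec.map (toLoc P ≫ g) ≫ t) := Triv.of_fibre t P h0 _ (fun r hr => hg
        (by rw [← Localization.AtPrime.comap_maximalIdeal (I := P.asIdeal)] at hr; exact hr))
        (fun r hr => hu _ (fun hr' => hr (by rw [← Localization.AtPrime.comap_maximalIdeal (I := P.asIdeal)]; exact hr')))
      have h2 : Triv u ((Spec.map g ≫ q) ≫ t) := h1.of_comp (𝟙 _) (by simp [q])
      rw [h2 _ (𝟙 _) h, _root_.one_mul])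
  obtain ⟨φ₀, hφ₀⟩ := hfac A e fun y => by
    refine Specializes.map (?_ : y ⤳ c) e.continuous
    exact (PrimeSpectrum.le_iff_specializes (y : PrimeSpectrum A) c).1 (IsLocalRing.le_maximalIdeal y.isPrime.ne_top)
  have hiφ : iC ≫ φ₀ = 𝟙 A := Spec.map_injective (by
    rw [Spec.map_comp, ← hxP, ← Category.assoc, hφ₀, pullback.lift_snd, Spec.map_id])
  refine TrivAct.eq_of_levels (D := A) M (S := S) (Y := G) _ _ fun T _ hT π₀ => ?_
  let AT : CommRingCat.{u} := CommRingCat.of (MonoidAlgebra A T)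
  let sT : A ⟶ AT := CommRingCat.ofHom MonoidAlgebra.singleOneRingHom
  let χ' : T →* AT := MonoidAlgebra.of A T
  have hz : (Spec.map (φ₀ ≫ sT) ≫ xP ≫ pullback.fst _ _) ≫ G.hom = (Spec.map (iC ≫ φ₀ ≫ sT) ≫ q) ≫ t := by
    simp only [Category.assoc, pullback.condition, reassoc_of% hxP, Spec.map_comp]
  have key := htriv T hT π₀ AT (φ₀ ≫ sT) χ' hz
  have ez : Spec.map (φ₀ ≫ sT) ≫ xP ≫ pullback.fst _ _ = Spec.map sT ≫ one.left := by
    rw [Spec.map_comp, Category.assoc, reassoc_of% hφ₀, pullback.lift_fst]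
  have ep : Spec.map (iC ≫ φ₀ ≫ sT) ≫ q = Spec.map (toLoc P ≫ sT) := by
    rw [reassoc_of% hiφ, Spec.map_comp]
  have hz1 : (Spec.map sT ≫ one.left) ≫ G.hom = Spec.map (toLoc P ≫ sT) ≫ t := by
    rw [← ez, hz, ep]
  rw [Aw_congr σ act hz hz1 _ ep ez, ez] at key
  change (lift _ _ ≫ act).left = _ at key
  rw [hl] at key
  have h1 : (Over.homMk (Spec.map sT ≫ one.left) hz1 : Over.mk (Spec.map (toLoc P ≫ sT) ≫ t) ⟶ G) = 1 := by
    let k : Over.mk (Spec.map (toLoc P ≫ sT) ≫ t) ⟶ Over.mk (q ≫ t) :=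
      Over.homMk (Spec.map sT) (by simp [q])
    have : (Over.homMk (Spec.map sT ≫ one.left) hz1 : Over.mk (Spec.map (toLoc P ≫ sT) ≫ t) ⟶ G) = k ≫ one :=
      Over.OverMorphism.ext rfl
    rw [this]
    exact MonObj.comp_one k
  rw [h1, _root_.mul_one, Over.comp_left, pt_left] at key
  rw [Over.comp_left, univ_res]
  have hL : gmap (toLoc P) M ≫ CommRingCat.ofHom (MonoidAlgebra.mapDomainRingHom A π₀) =
      gev (toLoc P ≫ sT) (χ'.comp π₀) := by
    exact CommRingCat.hom_ext (mapDomain_comp_map _ π₀)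
  simp only [← Category.assoc, ← Spec.map_comp] at key ⊢
  rw [hL, key]
  have hone : Spec.map sT ≫ one.left = Spec.map (CommRingCat.ofHom (MonoidAlgebra.mapDomainRingHom A π₀)) ≫
      (1 : Over.mk (Spec.map (gc A M) ≫ q ≫ t) ⟶ G).left := by
    let k : Over.mk (Spec.map (gc A M) ≫ q ≫ t) ⟶ Over.mk (q ≫ t) := Over.homMk (Spec.map (gc A M)) rfl
    refine Eq.trans ?_ (congrArg (fun z : Over.mk (Spec.map (gc A M) ≫ q ≫ t) ⟶ G => _ ≫ z.left) (MonObj.comp_one k))
    show _ = _ ≫ Spec.map (gc A M) ≫ _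
    rw [← Category.assoc, ← Spec.map_comp]
    congr 2
    exact CommRingCat.hom_ext (mapDomain_const π₀).symm
  rw [← hone]

end Groth.Agent.HomTriv
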