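import Groth.Agent.TrivAct.Descent
/-!
Finite flat affine covers on which a group of multiplicative type of finite type splits with finitely generated
character groups.
-/

set_option autoImplicit false
set_option backward.isDefEq.respectTransparency false
set_option backward.isDefEq.respectTransparency.types false
set_option linter.style.haveILetI false

universe u

open CategoryTheory CategoryTheory.Limits MonoidalCategory CartesianMonoidalCategory MonObj AlgebraicGeometry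

noncomputable section

namespace Groth.Agent.HomTriv

open FixedSmooth

variable {S : Scheme.{u}}

/-- Finite flat affine covers of affine opens on which the group is split with finitely generated characters. -/
def HasSplitCoversFG (G : Over S) [GrpObj G] : Prop :=
  ∀ U : S.Opens, IsAffineOpen U → ∃ (κ : Type u) (_ : Finite κ) (A : κ → Scheme.{u}) (_ : ∀ i, IsAffine (A i))
    (g : ∀ i, A i ⟶ U.toScheme), (∀ i, Flat (g i)) ∧ (∀ p : U.toScheme, ∃ (i : κ) (a : A i), g i a = p) ∧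
    ∀ i, ∃ (M : Type) (_ : AddCommGroup M), AddGroup.FG M ∧ Nonempty (Split G (g i ≫ U.ι) M)

theorem HasSplitCoversFG.hasSplitCovers {G : Over S} [GrpObj G] (hG : HasSplitCoversFG G) :
    TrivAct.HasSplitCovers G := fun U hU => by
  obtain ⟨κ, i₁, A, hA, g, h₁, h₂, h₃⟩ := hG U hU
  exact ⟨κ, i₁, A, hA, g, h₁, h₂, fun i => by obtain ⟨M, iM, -, σ⟩ := h₃ i; exact ⟨M, iM, σ⟩⟩

theorem hasSplitCoversFG_of_isMultTypeFT {G : Over S} [GrpObj G] (hG : SGA3x.IsMultTypeFT G) :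
    HasSplitCoversFG G := by
  intro U hU
  obtain ⟨S', f, hflat, hsurj, hqc, hloc⟩ := hG
  obtain ⟨W, hWc, hW⟩ := hqc U hU
  have hW' : W ≤ f ⁻¹ᵁ U := fun w hw => hW.subset ⟨w, hw, rfl⟩
  choose O hO M instM hFG e using hloc
  have hA : ∀ w : W, ∃ A : S'.Opens, IsAffineOpen A ∧ w.1 ∈ A ∧ A ≤ O w.1 ⊓ W := fun w => by
    obtain ⟨A, hA, hwA, hle⟩ := exists_isAffineOpen_mem_and_subset (x := w.1) (U := O w.1 ⊓ W) ⟨hO w.1, w.2⟩
    exact ⟨A, hA, hwA, hle⟩
  choose A hAa hwA hAle using hA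
  obtain ⟨t, ht⟩ := hWc.elim_finite_subcover (fun w : W => (A w : Set S')) (fun w => (A w).2)
    fun w hw => Set.mem_iUnion.2 ⟨⟨w, hw⟩, hwA _⟩
  refine ⟨↥t, inferInstance, fun w => (A w.1).toScheme, fun w => hAa w.1,
    fun w => f.resLE U (A w.1) (((hAle w.1).trans inf_le_right).trans hW'), fun w => inferInstance, fun p => ?_,
    fun w => ?_⟩
  · obtain ⟨x, hx, hxp⟩ := hW.superset p.2
    obtain ⟨w, hwt, hxA⟩ := Set.mem_iUnion₂.1 (ht hx)
    refine ⟨⟨w, hwt⟩, ⟨x, hxA⟩, U.ι.isOpenEmbedding.injective ?_⟩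
    rw [← Scheme.Hom.comp_apply, Scheme.Hom.resLE_comp_ι]
    exact hxp
  · letI := instM w.1.1
    obtain ⟨σ⟩ := exists_split ((O w.1.1).ι ≫ f) (M w.1.1) (e w.1.1).some
    exact ⟨M w.1.1, instM w.1.1, hFG w.1.1,
      ⟨σ.comp (S'.homOfLE ((hAle w.1).trans inf_le_left)) (by simp)⟩⟩

/-- An affine chart over a point. -/
theorem HasSplitCoversFG.exists_over {G : Over S} [GrpObj G] (hG : HasSplitCoversFG G) (U : S.Opens)
    (hU : IsAffineOpen U) :
    ∃ (κ : Type u) (_ : Finite κ) (B : κ → CommRingCat.{u}) (g : ∀ i, Spec (B i) ⟶ U.toScheme),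
      (∀ i, Flat (g i)) ∧ (∀ p : U.toScheme, ∃ (i : κ) (a : Spec (B i)), g i a = p) ∧
      ∀ i, ∃ (M : Type) (_ : AddCommGroup M), AddGroup.FG M ∧ Nonempty (Split G (g i ≫ U.ι) M) := by
  obtain ⟨κ, i₁, A, hA, g, h₁, h₂, h₃⟩ := hG U hU
  haveI := hA
  haveI := h₁
  refine ⟨κ, i₁, fun i => Γ(A i, ⊤), fun i => (A i).isoSpec.inv ≫ g i, fun i => inferInstance, fun p => ?_, fun i => ?_⟩
  · obtain ⟨i, a, ha⟩ := h₂ p
    refine ⟨i, (A i).isoSpec.hom a, ?_⟩
    rw [← Scheme.Hom.comp_apply, Iso.hom_inv_id_assoc]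
    exact ha
  · obtain ⟨M, iM, hM, ⟨σ⟩⟩ := h₃ i
    exact ⟨M, iM, hM, ⟨σ.comp (A i).isoSpec.inv (by simp)⟩⟩

end Groth.Agent.HomTriv
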