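import Groth.Agent.FixedSmooth.Props
import Groth.Agent.FixedSmooth.Cover
import Groth.Agent.WeilClosedLib.Equalizer
/-!
The universal point of a split group and the ideal on which a homomorphism to a separated group is trivial.
-/

set_option autoImplicit false
set_option backward.isDefEq.respectTransparency false
set_option backward.isDefEq.respectTransparency.types false
set_option linter.style.haveILetI false

universe u

open CategoryTheory CategoryTheory.Limits MonoidalCategory CartesianMonoidalCategory MonObj AlgebraicGeometry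

noncomputable section

namespace Groth.Agent.HomTriv

open FixedSmooth

variable {S : Scheme.{u}}

/-- Where two maps from an affine scheme to a separated scheme agree. -/
theorem exists_eq_ideal {R : CommRingCat.{u}} {p : Spec R ⟶ S} {G : Over S} [IsSeparated G.hom]
    (a b : Over.mk p ⟶ G) :
    ∃ J : Ideal R, (∀ {D : CommRingCat.{u}} (ψ : R ⟶ D),
      J ≤ RingHom.ker ψ.hom ↔ Spec.map ψ ≫ a.left = Spec.map ψ ≫ b.left) ∧
      (LocallyOfFiniteType G.hom → J.FG) := by
  obtain ⟨E, j, -, hcl, hfp, hE⟩ := WeilClosedLib.exists_immersion_equalizer a b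
  obtain ⟨I, e, he⟩ := IsClosedImmersion.Spec_iff.1 (hcl inferInstance)
  refine ⟨I, fun {D} ψ => ⟨fun h => ?_, fun h => ?_⟩, fun hG => ?_⟩
  · let ψ' : CommRingCat.of (R ⧸ I) ⟶ D := CommRingCat.ofHom (Ideal.Quotient.lift I ψ.hom h)
    have hψ : CommRingCat.ofHom (Ideal.Quotient.mk I) ≫ ψ' = ψ :=
      CommRingCat.hom_ext (Ideal.Quotient.lift_comp_mk I ψ.hom h)
    have hc : j ≫ a = j ≫ b := (hE E j).1 ⟨𝟙 E, Category.id_comp j⟩
    have h' : j.left ≫ a.left = j.left ≫ b.left := congrArg CommaMorphism.left hc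
    rw [← hψ, Spec.map_comp, Category.assoc, Category.assoc]
    rw [he, Category.assoc, Category.assoc, cancel_epi] at h'
    rw [h']
  · let k : Over.mk (Spec.map ψ ≫ p) ⟶ Over.mk p := Over.homMk (Spec.map ψ) rfl
    obtain ⟨l, hl⟩ := (hE _ k).2 (Over.OverMorphism.ext h)
    obtain ⟨ψ', hψ'⟩ := Spec.map_surjective (l.left ≫ e.hom)
    have hfac : CommRingCat.ofHom (Ideal.Quotient.mk I) ≫ ψ' = ψ := Spec.map_injective (by
      rw [Spec.map_comp, hψ', Category.assoc, ← he]
      exact congrArg CommaMorphism.left hl)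
    intro w hw
    rw [RingHom.mem_ker, ← hfac]
    simp [Ideal.Quotient.eq_zero_iff_mem.2 hw]
  · haveI : LocallyOfFinitePresentation (Spec.map (CommRingCat.ofHom (Ideal.Quotient.mk I))) := by
      haveI := hfp hG
      have : Spec.map (CommRingCat.ofHom (Ideal.Quotient.mk I)) = e.inv ≫ j.left := by rw [he, Iso.inv_hom_id_assoc]
      rw [this]
      infer_instance
    have h : (Ideal.Quotient.mk I).FinitePresentation :=
      (HasRingHomProperty.Spec_iff (P := @LocallyOfFinitePresentation)).1 this
    haveI : Algebra.FinitePresentation R (R ⧸ I) :=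
      RingHom.finitePresentation_algebraMap.1 (by rwa [Ideal.Quotient.algebraMap_eq])
    have := Algebra.FinitePresentation.ker_fG_of_surjective (Ideal.Quotient.mkₐ R I) Ideal.Quotient.mk_surjective
    rwa [show RingHom.ker (Ideal.Quotient.mkₐ R I).toRingHom = I from Ideal.mk_ker] at this

variable {H G : Over S} [GrpObj H]

/-- The group algebra. -/
abbrev GA (B : CommRingCat.{u}) (M : Type) [AddCommGroup M] : CommRingCat.{u} :=
  CommRingCat.of (MonoidAlgebra B (Multiplicative M))

/-- Constants. -/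
abbrev gc (B : CommRingCat.{u}) (M : Type) [AddCommGroup M] : B ⟶ GA B M :=
  CommRingCat.ofHom MonoidAlgebra.singleOneRingHom

/-- Evaluation. -/
abbrev gev {B D : CommRingCat.{u}} {M : Type} [AddCommGroup M] (g : B ⟶ D) (χ : Multiplicative M →* D) : GA B M ⟶ D :=
  CommRingCat.ofHom (L g.hom χ)

/-- Change of coefficients. -/
abbrev gmap {B D : CommRingCat.{u}} (g : B ⟶ D) (M : Type) [AddCommGroup M] : GA B M ⟶ GA D M :=
  CommRingCat.ofHom (MonoidAlgebra.mapRingHom (Multiplicative M) g.hom)

variable {B : CommRingCat.{u}} {t : Spec B ⟶ S} {M : Type} [AddCommGroup M]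

/-- The universal point of a split group. -/
def univ (σ : Split H t M) : Over.mk (Spec.map (gc B M) ≫ t) ⟶ H :=
  σ.pt (GA B M) (Spec.map (gc B M)) (MonoidAlgebra.of B (Multiplicative M))

theorem pt_congr (σ : Split H t M) {D : CommRingCat.{u}} {p p' : Spec D ⟶ Spec B} (hp : p = p')
    {χ χ' : Multiplicative M →* D} (hχ : χ = χ') : @Eq (Spec D ⟶ H.left) (σ.pt D p χ).left (σ.pt D p' χ').left := by
  subst hp hχ; rfl

/-- Every point comes from the universal point. -/
theorem pt_left (σ : Split H t M) {D : CommRingCat.{u}} (g : B ⟶ D) (χ : Multiplicative M →* D) :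
    @Eq (Spec D ⟶ H.left) (σ.pt D (Spec.map g) χ).left (Spec.map (gev g χ) ≫ (univ σ).left) := by
  have h := congrArg CommaMorphism.left
    (σ.nat (GA B M) D (Spec.map (gc B M)) (gev g χ) (MonoidAlgebra.of B (Multiplicative M)))
  have e1 : Spec.map g = Spec.map (gev g χ) ≫ Spec.map (gc B M) := by
    rw [← Spec.map_comp]
    congr 1
    exact CommRingCat.hom_ext (L_comp_single g.hom χ).symm
  have e2 : χ = (gev g χ).hom.toMonoidHom.comp (MonoidAlgebra.of B (Multiplicative M)) := (L_comp_of g.hom χ).symm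
  rw [pt_congr σ e1 e2]
  exact h.symm

/-- Triviality on the universal point implies triviality. -/
theorem comp_eq_one_of_univ [GrpObj G] (σ : Split H t M) (u : H ⟶ G) (hu : univ σ ≫ u = 1) {Y : Over S}
    (p : Y ⟶ Over.mk t) (h : Y ⟶ H) : h ≫ u = 1 := by
  refine hom_ext_affine _ _ fun D p₀ w => ?_
  obtain ⟨g, hg⟩ := Spec.map_surjective (w ≫ p).left
  have hp : p₀ = Spec.map g ≫ t := by rw [hg]; exact (Over.w (w ≫ p)).symm
  subst hp
  rw [MonObj.comp_one, ← Category.assoc]
  obtain ⟨χ, hχ⟩ := (σ.pt D (Spec.map g)).surjective (w ≫ h)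
  let k : Over.mk (Spec.map g ≫ t) ⟶ Over.mk (Spec.map (gc B M) ≫ t) := Over.homMk (Spec.map (gev g χ)) (by
    show Spec.map _ ≫ Spec.map _ ≫ t = _
    rw [← Category.assoc, ← Spec.map_comp]
    congr 2
    exact CommRingCat.hom_ext (L_comp_single g.hom χ))
  have hk : w ≫ h = k ≫ univ σ := by
    rw [← hχ]
    exact Over.OverMorphism.ext (pt_left σ g χ)
  rw [hk, Category.assoc, hu, MonObj.comp_one]

/-- Restriction of a splitting along a map of affine schemes. -/
abbrev res (σ : Split H t M) {D : CommRingCat.{u}} (g : B ⟶ D) : Split H (Spec.map g ≫ t) M := σ.comp (Spec.map g) rfl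

theorem univ_res (σ : Split H t M) {D : CommRingCat.{u}} (g : B ⟶ D) :
    (univ (res σ g)).left = Spec.map (gmap g M) ≫ (univ σ).left := by
  show 𝟙 _ ≫ (σ.pt (GA D M) (Spec.map (gc D M) ≫ Spec.map g) _).left = _
  rw [Category.id_comp, pt_congr σ (Spec.map_comp _ _).symm rfl, pt_left]
  congr 2
  exact CommRingCat.hom_ext (L_single_of g.hom)

variable [GrpObj G] [IsSeparated G.hom]

/-- The triviality ideal of a split group. -/
theorem exists_triv_ideal (σ : Split H t M) (u : H ⟶ G) :
    ∃ J : Ideal (GA B M), (∀ {D : CommRingCat.{u}} (g : B ⟶ D),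
        univ (res σ g) ≫ u = 1 ↔ ∀ w ∈ J, ∀ m, g.hom (MonoidAlgebra.coeff w m) = 0) ∧
      (LocallyOfFiniteType G.hom → J.FG) ∧ (J = ⊥ → univ σ ≫ u = 1) := by
  obtain ⟨J, hJ, hfg⟩ := exists_eq_ideal (univ σ ≫ u) 1
  refine ⟨J, fun {D} g => ?_, hfg, fun h => ?_⟩
  · have e1 : (univ (res σ g) ≫ u).left = Spec.map (gmap g M) ≫ (univ σ ≫ u).left := by
      rw [Over.comp_left, univ_res, Over.comp_left, Category.assoc]
    have e2 : (1 : Over.mk (Spec.map (gc D M) ≫ Spec.map g ≫ t) ⟶ G).left =
        Spec.map (gmap g M) ≫ (1 : Over.mk (Spec.map (gc B M) ≫ t) ⟶ G).left := by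
      let k : Over.mk (Spec.map (gc D M) ≫ Spec.map g ≫ t) ⟶ Over.mk (Spec.map (gc B M) ≫ t) :=
        Over.homMk (Spec.map (gmap g M)) (by
          show Spec.map _ ≫ Spec.map _ ≫ t = Spec.map _ ≫ Spec.map g ≫ t
          rw [← Category.assoc, ← Spec.map_comp, ← Category.assoc, ← Spec.map_comp]
          congr 2
          exact CommRingCat.hom_ext (RingHom.ext fun r => MonoidAlgebra.mapRingHom_single _ _ _))
      exact (congrArg CommaMorphism.left (MonObj.comp_one k)).symm
    constructor
    · intro h w hw m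
      have h' : J ≤ RingHom.ker (gmap g M).hom := (hJ _).2 (by rw [← e1, h]; exact e2)
      have hz : MonoidAlgebra.mapRingHom (Multiplicative M) g.hom w = 0 := h' hw
      have := congrArg (fun z => MonoidAlgebra.coeff z m) hz
      simpa using this
    · intro h
      have h' : J ≤ RingHom.ker (gmap g M).hom := fun w hw => by
        show MonoidAlgebra.mapRingHom (Multiplicative M) g.hom w = 0
        ext m
        simpa using h w hw m
      apply Over.OverMorphism.ext
      rw [e1, (hJ _).1 h']
      exact e2.symm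
  · apply Over.OverMorphism.ext
    simpa using (hJ (𝟙 _)).1 (h ▸ bot_le)

end Groth.Agent.HomTriv
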