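import Groth.Agent.HomTriv.KeyLft
import Groth.Agent.HomTriv.Covers
import Groth.Agent.TrivAct.SplitExt
import Groth.Agent.TrivAct.Chart
import Groth.Agent.FixedSmooth.CoreLocal
import Groth.Agent.FixedSmooth.SmoothFixed
/-!
A homomorphism from a group of multiplicative type to a separated group over a locally noetherian base which is
trivial at a point is trivial over the local ring at that point.
-/

set_option autoImplicit false
set_option backward.isDefEq.respectTransparency false
set_option backward.isDefEq.respectTransparency.types false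
set_option linter.style.haveILetI false

universe u

open CategoryTheory CategoryTheory.Limits MonoidalCategory CartesianMonoidalCategory MonObj AlgebraicGeometry

noncomputable section

namespace Groth.Agent.HomTriv

open FixedSmooth

/-- Nakayama for coefficients. -/
theorem eq_zero_of_mul_eq_self {A : Type u} [CommRing A] [IsLocalRing A] {K : Type} [CommGroup K]
    {r c : MonoidAlgebra A K}
    (hr : r ∈ (IsLocalRing.maximalIdeal A).map (MonoidAlgebra.singleOneRingHom : A →+* MonoidAlgebra A K))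
    (h : r * c = c) : c = 0 := by
  classical
  let gcA : A →+* MonoidAlgebra A K := MonoidAlgebra.singleOneRingHom
  let N : Ideal A := Ideal.span ((c.coeff.support.image fun k => c.coeff k : Finset A) : Set A)
  have hc : c ∈ N.map gcA := mem_map_of_coeff fun k => by
    by_cases hk : k ∈ c.coeff.support
    · exact Ideal.subset_span (Finset.mem_image_of_mem _ hk)
    · rw [Finsupp.notMem_support_iff.1 hk]; exact N.zero_mem
  have hrc : c ∈ (IsLocalRing.maximalIdeal A * N).map gcA := by
    rw [Ideal.map_mul, ← h]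
    exact Ideal.mul_mem_mul hr hc
  have hcoef : ∀ k, c.coeff k ∈ IsLocalRing.maximalIdeal A * N := fun k => by
    have hle : (IsLocalRing.maximalIdeal A * N).map gcA ≤
        RingHom.ker (MonoidAlgebra.mapRingHom K (Ideal.Quotient.mk (IsLocalRing.maximalIdeal A * N))) :=
      Ideal.map_le_iff_le_comap.2 fun a ha => by
        show MonoidAlgebra.mapRingHom K _ (MonoidAlgebra.single 1 a) = 0
        rw [MonoidAlgebra.mapRingHom_single, Ideal.Quotient.eq_zero_iff_mem.2 ha, MonoidAlgebra.single_zero]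
    have := congrArg (fun z => MonoidAlgebra.coeff z k) (RingHom.mem_ker.1 (hle hrc))
    exact Ideal.Quotient.eq_zero_iff_mem.1 (by simpa using this)
  have hN : N = ⊥ := Submodule.eq_bot_of_le_smul_of_le_jacobson_bot (IsLocalRing.maximalIdeal A) N
    (Submodule.fg_span (Finset.finite_toSet _))
    (Ideal.span_le.2 fun a ha => by
      obtain ⟨k, -, rfl⟩ := Finset.mem_image.1 ha
      exact hcoef k)
    (IsLocalRing.maximalIdeal_le_jacobson _)
  ext k
  have : c.coeff k ∈ N := Ideal.mul_le_right (hcoef k)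
  rw [hN] at this
  simpa using this

variable {S : Scheme.{u}} {H G : Over S} [GrpObj H] [GrpObj G]
  {B : CommRingCat.{u}} {t : Spec B ⟶ S} {M : Type} [AddCommGroup M]

/-- Trivial modulo a nilpotent ideal over a point implies trivial. -/
theorem triv_of_nilpotent (σ : Split H t M) (u : H ⟶ G) [IsMonHom u] (J : Ideal B) (hJ : IsNilpotent J)
    (s : S) (hs : ∀ y : Spec B, t y = s) (h0 : Triv u (Spec.map (CommRingCat.ofHom (Ideal.Quotient.mk J)) ≫ t)) :
    univ σ ≫ u = 1 := by
  obtain ⟨U, hU, hsU, -⟩ := exists_isAffineOpen_mem_and_subset (x := s) (U := ⊤) trivial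
  haveI : IsAffine U.toScheme := hU
  let e : S ⟶ G.left := (η[G] : 𝟙_ (Over S) ⟶ G).left
  have he : e ≫ G.hom = 𝟙 S := Over.w (η[G] : 𝟙_ (Over S) ⟶ G)
  obtain ⟨W, hW, heW, hWU⟩ := exists_isAffineOpen_mem_and_subset (x := e s) (U := G.hom ⁻¹ᵁ U) (by
    show G.hom (e s) ∈ U
    rw [← Scheme.Hom.comp_apply, he]; exact hsU)
  haveI : IsAffine W.toScheme := hW
  let q : Spec (GA B M) ⟶ Spec B := Spec.map (gc B M)
  have hq : ∀ y, (q ≫ t) y = s := fun y => by rw [Scheme.Hom.comp_apply]; exact hs _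
  haveI : IsAffine (pullback (W.ι ≫ G.hom) (q ≫ t)) :=
    isAffine_pullback_of_factor U _ _ (G.hom.resLE U W hWU)
      (IsOpenImmersion.lift U.ι (q ≫ t) (by
        rw [Scheme.Opens.range_ι]
        rintro _ ⟨y, rfl⟩
        rw [hq]; exact hsU))
      (Scheme.Hom.resLE_comp_ι _ _) (IsOpenImmersion.lift_fac _ _ _)
  let act : H ⊗ G ⟶ G := (fst H G ≫ u) * snd H G
  have hl : ∀ (Y : Over S) (h : Y ⟶ H) (x : Y ⟶ G), lift h x ≫ act = (h ≫ u) * x := fun Y h x => by
    simp [act, MonObj.comp_mul]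
  have key := TrivAct.act_fixes_chart act
    (fun X h h' x => by simp [hl, MonObj.mul_comp, _root_.mul_assoc]) (fun X x => by simp [hl, MonObj.one_comp])
    σ (GA B M) q W (J.map (gc B M).hom) (by
      obtain ⟨n, hn⟩ := hJ
      refine ⟨n, ?_⟩
      rw [← Ideal.map_pow, hn]
      exact Ideal.map_bot)
    (fun {B'} g hg h x => by
      rw [hl]
      let k : CommRingCat.of (B ⧸ J) ⟶ B' := CommRingCat.ofHom (Ideal.Quotient.lift J (gc B M ≫ g).hom
        fun a ha => hg (Ideal.mem_map_of_mem _ ha))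
      have hk : CommRingCat.ofHom (Ideal.Quotient.mk J) ≫ k = gc B M ≫ g :=
        CommRingCat.hom_ext (Ideal.Quotient.lift_comp_mk _ _ _)
      have : Triv u ((Spec.map g ≫ q) ≫ t) := h0.of_comp (Spec.map k) (by
        rw [← Category.assoc, ← Spec.map_comp, hk, Spec.map_comp])
      rw [this _ (𝟙 _) h, _root_.one_mul])
    (univ σ) 1 (by
      rintro _ ⟨y, rfl⟩
      have : (1 : Over.mk (q ≫ t) ⟶ G).left = (q ≫ t) ≫ e := rfl
      show (1 : Over.mk (q ≫ t) ⟶ G).left y ∈ (W : Set G.left)
      rw [this, Scheme.Hom.comp_apply]; erw [hq]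
      exact heW)
  rw [hl, _root_.mul_one] at key
  exact key

theorem triv_local_noeth [IsLocallyNoetherian S] [IsSeparated G.hom] [IsAffineHom H.hom] [LocallyOfFiniteType H.hom]
    (hH : TrivAct.HasSplitCovers H) (σ : Split H t M) (u : H ⟶ G) [IsMonHom u] (P : PrimeSpectrum B)
    (h0 : Triv u (S.fromSpecResidueField (t P))) :
    univ (res σ (toLoc P)) ≫ u = 1 := by
  let A : CommRingCat.{u} := CommRingCat.of (Localization.AtPrime P.asIdeal)
  let t' : Spec A ⟶ S := Spec.map (toLoc P) ≫ t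
  let s : S := t' (IsLocalRing.closedPoint (Localization.AtPrime P.asIdeal))
  have hsP : t P = s := by
    show _ = (Spec.map (toLoc P) ≫ t) _
    rw [Scheme.Hom.comp_apply]
    congr 1
    exact (PrimeSpectrum.ext Localization.AtPrime.comap_maximalIdeal).symm
  rw [hsP] at h0
  let R : CommRingCat.{u} := S.presheaf.stalk s
  let ρ : R ⟶ A := Scheme.stalkClosedPointTo t'
  let r : Spec R ⟶ S := S.fromSpecStalk s
  have hρ : Spec.map ρ ≫ r = t' := Scheme.Spec_stalkClosedPointTo_fromSpecStalk t'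
  let P₀ := pullback H.hom r
  haveI : IsAffine P₀ := isAffine_of_isAffineHom (pullback.snd H.hom r)
  let A₀ : CommRingCat.{u} := Γ(P₀, ⊤)
  let α : R ⟶ A₀ := Spec.preimage (P₀.isoSpec.inv ≫ pullback.snd H.hom r)
  have hα : Spec.map α = P₀.isoSpec.inv ≫ pullback.snd H.hom r := Spec.map_preimage _
  haveI : IsNoetherianRing A₀ := by
    haveI : LocallyOfFiniteType (Spec.map α) := by rw [hα]; infer_instance
    have hft : α.hom.FiniteType := (HasRingHomProperty.Spec_iff (P := @LocallyOfFiniteType)).1 this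
    letI := α.hom.toAlgebra
    haveI : Algebra.FiniteType R A₀ := hft
    exact Algebra.FiniteType.isNoetherianRing R A₀
  let p₀ : Spec A₀ ⟶ S := Spec.map α ≫ r
  let hz : Over.mk p₀ ⟶ H := Over.homMk (P₀.isoSpec.inv ≫ pullback.fst H.hom r) (by
    show (_ ≫ pullback.fst H.hom r) ≫ H.hom = Spec.map α ≫ r
    rw [hα, Category.assoc, Category.assoc, pullback.condition])
  obtain ⟨J₀, hJ₀, -⟩ := exists_eq_ideal (hz ≫ u) 1
  let I : Ideal A₀ := (IsLocalRing.maximalIdeal R).map α.hom
  have hJI : ∀ n : ℕ, J₀ ≤ I ^ n := fun n => by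
    let ψ : A₀ ⟶ CommRingCat.of (A₀ ⧸ I ^ n) := CommRingCat.ofHom (Ideal.Quotient.mk (I ^ n))
    let k : Over.mk (Spec.map ψ ≫ p₀) ⟶ Over.mk p₀ := Over.homMk (Spec.map ψ) rfl
    suffices hk : k ≫ hz ≫ u = k ≫ 1 by
      have h' := (hJ₀ ψ).2 (congrArg CommaMorphism.left hk)
      rwa [CommRingCat.hom_ofHom, Ideal.mk_ker] at h'
    refine TrivAct.ext_of_split hH fun B' q' M' _ σ' w => ?_
    obtain ⟨φ, hφ⟩ := Spec.map_surjective w.left
    let β : R ⟶ B' := α ≫ ψ ≫ φ
    have hq' : q' = Spec.map β ≫ r := by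
      have : q' = w.left ≫ Spec.map ψ ≫ p₀ := (Over.w w).symm
      rw [this, ← hφ]
      simp [β, p₀, Spec.map_comp]
    let J : Ideal B' := (IsLocalRing.maximalIdeal R).map β.hom
    have hJn : IsNilpotent J := ⟨n, by
      show _ = ⊥
      rw [← Ideal.map_pow, eq_bot_iff, Ideal.map_le_iff_le_comap]
      intro a ha
      show φ.hom (Ideal.Quotient.mk (I ^ n) (α.hom a)) = 0
      rw [Ideal.Quotient.eq_zero_iff_mem.2 (by rw [← Ideal.map_pow]; exact Ideal.mem_map_of_mem _ ha), map_zero]⟩
    have hpts : ∀ y : Spec B', q' y = s := fun y => by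
      rw [hq', Scheme.Hom.comp_apply]
      have h1 : Spec.map β y = (IsLocalRing.closedPoint R : Spec R) := by
        refine PrimeSpectrum.ext ((IsLocalRing.maximalIdeal.isMaximal R).eq_of_le
          (Ideal.IsPrime.ne_top (PrimeSpectrum.isPrime _)) ?_).symm
        intro a ha
        show β.hom a ∈ (y : PrimeSpectrum B').asIdeal
        obtain ⟨m, hm⟩ := hJn
        refine (y : PrimeSpectrum B').isPrime.mem_of_pow_mem m ?_
        have := Ideal.pow_mem_pow (Ideal.mem_map_of_mem β.hom ha) m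
        rw [show J ^ m = ⊥ from hm, Ideal.mem_bot] at this
        rw [this]; exact Ideal.zero_mem _
      rw [h1]
      exact Scheme.fromSpecStalk_closedPoint
    have hres : Triv u (Spec.map (CommRingCat.ofHom (Ideal.Quotient.mk J)) ≫ q') := by
      let lk : S.residueField s ⟶ CommRingCat.of (B' ⧸ J) := CommRingCat.ofHom
        (Ideal.Quotient.lift (IsLocalRing.maximalIdeal R) ((Ideal.Quotient.mk J).comp β.hom) fun a ha =>
          Ideal.Quotient.eq_zero_iff_mem.2 (Ideal.mem_map_of_mem _ ha))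
      refine h0.of_comp (Spec.map lk) ?_
      rw [hq', Scheme.fromSpecResidueField, ← Category.assoc, ← Spec.map_comp, ← Category.assoc, ← Spec.map_comp]
      rfl
    have := comp_eq_one_of_univ σ' u (triv_of_nilpotent σ' u J hJn s hpts hres) (𝟙 _) (w ≫ k ≫ hz)
    simpa [MonObj.comp_one] using this
  -- pull back to the local chart
  let kk : Spec (GA A M) ⟶ P₀ := pullback.lift (univ (res σ (toLoc P))).left (Spec.map (ρ ≫ gc A M)) (by
    rw [Spec.map_comp, Category.assoc, hρ]
    exact Over.w (univ (res σ (toLoc P))))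
  obtain ⟨ψ, hψ⟩ := Spec.map_surjective (kk ≫ P₀.isoSpec.hom)
  have hψα : α ≫ ψ = ρ ≫ gc A M := Spec.map_injective (by
    rw [Spec.map_comp, hψ, hα, Category.assoc, Iso.hom_inv_id_assoc, pullback.lift_snd])
  have hle : J₀ ≤ RingHom.ker ψ.hom := fun w hw => by
    have hw' : w ∈ (⨅ i : ℕ, I ^ i • ⊤ : Submodule A₀ A₀) := by
      rw [Submodule.mem_iInf]
      intro i
      rw [smul_eq_mul, Ideal.mul_top]
      exact hJI i hw
    obtain ⟨⟨a, ha⟩, haw⟩ := (I.mem_iInf_smul_pow_eq_bot_iff w).1 hw'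
    rw [RingHom.mem_ker]
    refine eq_zero_of_mul_eq_self (r := ψ.hom a) ?_ ?_
    · have h1 : ψ.hom a ∈ I.map ψ.hom := Ideal.mem_map_of_mem _ ha
      rw [Ideal.map_map, ← CommRingCat.hom_comp, hψα, CommRingCat.hom_comp, ← Ideal.map_map] at h1
      refine Ideal.map_mono ?_ h1
      exact Ideal.map_le_iff_le_comap.2 fun z hz' =>
        (IsLocalRing.mem_maximalIdeal _).2 (map_nonunit ρ.hom z hz')
    · rw [← map_mul]
      exact congrArg ψ.hom haw
  apply Over.OverMorphism.ext
  have hk' := (hJ₀ ψ).1 hle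
  let kz : Over.mk (Spec.map (gc A M) ≫ Spec.map (toLoc P) ≫ t) ⟶ Over.mk p₀ := Over.homMk (Spec.map ψ) (by
    show Spec.map ψ ≫ Spec.map α ≫ r = _
    rw [← Category.assoc, ← Spec.map_comp, hψα, Spec.map_comp, Category.assoc, hρ]
    rfl)
  have hkz : univ (res σ (toLoc P)) = kz ≫ hz := Over.OverMorphism.ext (by
    show _ = Spec.map ψ ≫ P₀.isoSpec.inv ≫ pullback.fst H.hom r
    rw [hψ, Category.assoc, Iso.hom_inv_id_assoc, pullback.lift_fst])
  rw [hkz, Category.assoc]
  exact hk'.trans (congrArg CommaMorphism.left (MonObj.comp_one (M := G) kz))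

end Groth.Agent.HomTriv
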